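import Groth.Agent.Sga2lef.H151.TwFinal
import Groth.Agent.Lefx.H80.Sheafify

/-!
# From graded presentation data to a coherent module

`exists_coh`: homogeneous elements `b j` of the limit of the graded modules `MG D (G n)` which generate locally, with
relations generated locally, modulo `x_0 ^ (n + 1)`, by homogeneous relations `K l j`, define a coherent module `E` with
`E / J ^ (n + 1) E = G n`.
-/

set_option autoImplicit false
universe u
open AlgebraicGeometry CategoryTheory
open Groth.Agent.VarietyB.ProjGlue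
open scoped DirectSum

namespace Groth.Agent.Sga2lef.H151.TwMod

open Groth.Agent.Pi1C Groth.Agent.Pi1C.TwistSec Groth.Agent.Pi1C.GrSec Groth.Agent.Pi1C.GrCone
open Groth.Agent.FormalB (KQuot.IsKQuot)

variable {X : Scheme.{u}} {r : ℕ} (D : CoordData X (Fin (r + 1))) {k : Type u} [Field k]
  (p : X ⟶ Spec (CommRingCat.of k))

theorem comp_smul_of_deg {G : X.Modules} (a : Cone.R D p) {z : MG D G} {d : ℤ}
    (hz : cG D G d z = z) (c : ℤ) (i : Fin (r + 1)) :
    comp D G c i (a • z) = (toM D p a (c - d)).1 i • comp D G d i z := by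
  conv_lhs => rw [← hz]
  rw [cone_smul]
  change comp D G c i (toM D p a • ghom D G d (z d)) = _
  rw [comp_smul_ghom]
  rfl

theorem toM_mul_apply {a b : Cone.R D p} {d : ℤ} (hb : cA D p d b = b) (c : ℤ) (i : Fin (r + 1)) :
    (toM D p (a * b) c).1 i = (toM D p a (c - d)).1 i * (toM D p b d).1 i := by
  have h1 : toM D p b = hom D d (toM D p b d) := (toM_of_cA D p hb).symm
  rw [map_mul, ← lc_chart, map_mul]
  conv_lhs => rw [h1]
  rw [chart_hom, ← mul_assoc, lc_mul_T, mul_comm (chart D i _), lc_C_mul, lc_chart, mul_comm]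

theorem toM_x_pow_mul_apply (a : Cone.R D p) (n : ℕ) (c : ℤ) (i j : Fin (r + 1)) :
    (toM D p (Cone.x D p j ^ n * a) c).1 i = D.f i j ^ n * (toM D p a (c - n)).1 i := by
  rw [map_mul, map_pow, toM_x, ← lc_chart, map_mul, map_pow, chart_coord, mul_pow, ← map_pow,
    LaurentPolynomial.T_pow, mul_one, mul_assoc, lc_C_mul, mul_comm (LaurentPolynomial.T _), lc_mul_T,
    lc_chart]

variable (hs : ∀ i, Function.Surjective (D.hom p i))

include hs in
/-- Functions on a chart extend to the cone ring. -/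
theorem exists_cone (i : Fin (r + 1)) (e : Γ(X, D.U i)) : ∃ N₀ : ℕ, ∀ N : ℕ, N₀ ≤ N →
    ∃ a : Cone.R D p, cA D p N a = a ∧ (toM D p a N).1 i = e := by
  obtain ⟨N₀, a, ha⟩ := Cone.chart_surj D p hs i (LaurentPolynomial.C e)
  refine ⟨N₀, fun N hN => ⟨cA D p N (Cone.x D p i ^ (N - N₀) * a), (grRing D p).self _ _, ?_⟩⟩
  rw [toM_cA, cM_apply, if_pos rfl, toM_x_pow_mul_apply, D.f_self, one_pow, one_mul, Nat.cast_sub hN,
    ← lc_chart, chart_toM, ← ha, lc_C_mul_T, if_pos (by ring)]

variable (hU : ∀ i, IsAffineOpen (D.U i)) [∀ i, QuasiCompact (D.U i).ι]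
  (hb : ∀ i j, X.basicOpen (D.f i j) = D.U i ⊓ D.U j)

include hb hs in
/-- The coherent module defined by graded presentation data. -/
theorem exists_coh {G : ℕ → X.Modules} {t : ∀ n, G (n + 1) ⟶ G n} (hcoh : ∀ n, Coh.IsCoh (G n))
    (hkill : ∀ n, ClSub.KilledByIdeal (LefSetup.hyper D hU 0 ^ (n + 1)) (G n))
    (q q' : ℕ) (d : Fin q → ℕ) (e : Fin q' → ℕ) (b : Fin q → ∀ n, MG D (G n))
    (hbd : ∀ j n, cG D (G n) (d j) (b j n) = b j n)
    (hbt : ∀ j n, mapR D p (t n) (b j (n + 1)) = b j n)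
    (K : Fin q' → Fin q → Cone.R D p) (hK : ∀ l j, cA D p ((e l : ℤ) - d j) (K l j) = K l j)
    (hrel : ∀ l n, ∑ j, K l j • b j n = 0)
    (hgen : ∀ n i (z : MG D (G n)), ∃ (N : ℕ) (a : Fin q → Cone.R D p),
      Cone.x D p i ^ N • z = ∑ j, a j • b j n)
    (hker : ∀ n i (a : Fin q → Cone.R D p), ∑ j, a j • b j n = 0 →
      ∃ (N : ℕ) (c : Fin q' → Cone.R D p) (a' : Fin q → Cone.R D p),
        ∀ j, Cone.x D p i ^ N * a j = ∑ l, c l * K l j + Cone.x D p 0 ^ (n + 1) * a' j) :
    ∃ (E : X.Modules) (p : ∀ n, E ⟶ G n), Coh.IsCoh E ∧ (∀ n, p (n + 1) ≫ t n = p n) ∧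
      ∀ n, KQuot.IsKQuot (LefSetup.hyper D hU 0 ^ (n + 1)) (p n) := by
  have hL : ∀ n (V : X.Opens), IsAffineOpen V → CohqB.QC2.Loc (G n) V := fun n => loc_of_isCoh (hcoh n)
  refine Lefx.H80.Sheafify.exists_sheafify_hyper D hU 0 G (fun n => (hcoh n).1) hkill t q q' d e
    (fun l j i => (toM D p (K l j) ((e l : ℤ) - d j)).1 i) ?_
    (fun j n i => comp D (G n) (d j) i (b j n)) ?_ ?_ ?_ ?_ ?_
  · intro l j i i'
    have h1 := (toM D p (K l j) ((e l : ℤ) - d j)).2 i i'
    change (resL D i i' (D.f i i')) ^ d j * resL D i i' _ = (resL D i i' (D.f i i')) ^ e l *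
      resR D i i' _
    rw [h1, ← mul_assoc, ← u_val, zpow_sub, Units.val_mul, zpow_natCast, zpow_natCast,
      ← Units.val_pow_eq_pow_val, ← Units.val_pow_eq_pow_val]
    congr 1
    rw [mul_comm, mul_assoc, Units.inv_mul, mul_one]
  · intro j n i i'
    have h1 := ((b j n) (d j)).2 i i'
    rw [zpow_natCast, Units.val_pow_eq_pow_val, u_val] at h1
    exact h1
  · intro j n i
    rw [← comp_mapR D p, hbt]
  · -- generation
    intro n i s
    obtain ⟨N, z, hz, rfl⟩ := exists_comp_eq D (G n) hU hb (hL n) i s 0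
    obtain ⟨M, a, ha⟩ := hgen n i z
    refine ⟨fun j => (toM D p (a j) (0 + N + M - d j)).1 i, ?_⟩
    have h1 := congrArg (comp D (G n) (0 + N + M) i) ha
    rw [comp_x_pow_self_smul, add_sub_cancel_right, map_sum] at h1
    rw [h1]
    exact Finset.sum_congr rfl fun j _ => comp_smul_of_deg D p (a j) (hbd j n) _ i
  · -- relations
    intro n i l
    have h1 := congrArg (comp D (G n) (e l) i) (hrel l n)
    rw [map_sum, map_zero] at h1
    rw [← h1]
    exact Finset.sum_congr rfl fun j _ => (comp_smul_of_deg D p (K l j) (hbd j n) _ i).symm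
  · -- kernel
    intro n i a ha
    choose N₀ hN₀ using fun j => exists_cone D p hs i (a j)
    let N : ℕ := ∑ j, (N₀ j + d j)
    have hN : ∀ j, N₀ j + d j ≤ N := fun j =>
      Finset.single_le_sum (f := fun j => N₀ j + d j) (fun _ _ => Nat.zero_le _) (Finset.mem_univ j)
    choose α hα hα' using fun j => hN₀ j (N - d j) (by have := hN j; omega)
    have hcast : ∀ j, ((N - d j : ℕ) : ℤ) = N - d j := fun j => Nat.cast_sub (by have := hN j; omega)
    let z : MG D (G n) := ∑ j, α j • b j n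
    obtain ⟨M, hM⟩ := exists_x_pow_smul_eq_zero D p (G n) hU hb (hL n) i z (by
      intro c
      rw [map_sum]
      by_cases hc : c = N
      · subst hc
        rw [← ha]
        refine Finset.sum_congr rfl fun j _ => ?_
        rw [comp_smul_of_deg D p (α j) (hbd j n), ← hcast, hα']
      · refine Finset.sum_eq_zero fun j _ => ?_
        rw [comp_smul_of_deg D p (α j) (hbd j n), ← toM_of_cA D p (hα j), cM_apply, if_neg, zero_smul]
        rw [hcast]
        omega)
    obtain ⟨M', c, a', h⟩ := hker n i (fun j => Cone.x D p i ^ M * α j) (by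
      rw [← hM, Finset.smul_sum]
      exact Finset.sum_congr rfl fun j _ => mul_smul _ _ _)
    let T : ℤ := N + M + M'
    refine ⟨fun l => (toM D p (c l) (T - e l)).1 i,
      fun j => (toM D p (a' j) (T - d j - (n + 1 : ℕ))).1 i, fun j => ?_⟩
    have h1 := congrArg (fun t => (toM D p t (T - d j)).1 i) (h j)
    simp only at h1
    have h2 : (toM D p (Cone.x D p i ^ M' * (Cone.x D p i ^ M * α j)) (T - d j)).1 i = a j := by
      rw [toM_x_pow_mul_apply, toM_x_pow_mul_apply, D.f_self, one_pow, one_pow, one_mul, one_mul]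
      have h3 : T - d j - M' - M = ((N - d j : ℕ) : ℤ) := by
        rw [hcast]
        ring
      rw [h3, hα']
    rw [← h2, h1, map_add]
    have h4 : ∀ z w : GrSec.M D, ((z + w) (T - d j)).1 i = (z (T - d j)).1 i + (w (T - d j)).1 i :=
      fun _ _ => rfl
    rw [h4, toM_x_pow_mul_apply, map_sum]
    congr 1
    have h5 : ∀ z : Fin q' → GrSec.M D, ((∑ l, z l) (T - d j)).1 i = ∑ l, (z l (T - d j)).1 i := by
      intro z
      exact map_sum (⟨⟨fun z : GrSec.M D => (z (T - d j)).1 i, rfl⟩, fun _ _ => rfl⟩ :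
        GrSec.M D →+ Γ(X, D.U i)) z Finset.univ
    rw [h5]
    refine Finset.sum_congr rfl fun l _ => ?_
    rw [toM_mul_apply D p (hK l j)]
    have h6 : T - d j - ((e l : ℤ) - d j) = T - e l := by ring
    rw [h6]

end Groth.Agent.Sga2lef.H151.TwMod
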